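import Groth.Agent.H1Punct.Main
import Groth.Agent.H1LCZ.AffineIso
import Groth.Agent.QCoh.Ab.Restrict
import Groth.Agent.QCoh.HHExact
import Groth.Agent.S0453

/-!
# Cohomology of a punctured spectrum is local cohomology, linearly
-/

set_option autoImplicit false
set_option linter.style.haveILetI false
set_option backward.isDefEq.respectTransparency false
set_option backward.isDefEq.respectTransparency.types false

universe u

open CategoryTheory CategoryTheory.Limits AlgebraicGeometry TopologicalSpace Opposite CategoryTheory.Abelian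

noncomputable section

namespace Groth.Agent.H1PunctLin

open Groth.Agent H1Punct

variable {A : Type u} [CommRing A] (U : (Spec (CommRingCat.of A)).Opens)

instance : (tilde.functor (CommRingCat.of A)).Additive := by
  haveI : PreservesFiniteLimits (tilde.functor (CommRingCat.of A)) :=
    QCoh.tilde_preservesFiniteLimits (R := CommRingCat.of A)
  exact Functor.additive_of_preserves_binary_products _

/-- `M ↦` the abelian sheaf of `M~|U`. -/
abbrev FU : ModuleCat.{u} (CommRingCat.of A) ⥤ CohTop.Ab (U : Scheme.{u}).carrier :=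
  Φ U ⋙ QCoh.toAbFunctor _

theorem shortExact_restrict_toAb {X : Scheme.{u}} (V : X.Opens) (T : ShortComplex X.Modules)
    (hT : (T.map (QCoh.toAbFunctor X)).ShortExact) :
    ((T.map (Scheme.Modules.restrictFunctor V.ι)).map (QCoh.toAbFunctor _)).ShortExact :=
  QCoh.Ab.restr_shortExact V.ι.isOpenEmbedding hT

theorem isFlasque_restrict_toAb {X : Scheme.{u}} (V : X.Opens) (F : X.Modules)
    [TopCat.Sheaf.IsFlasque (Coh.toAb F)] :
    TopCat.Sheaf.IsFlasque (Coh.toAb ((Scheme.Modules.restrictFunctor V.ι).obj F)) :=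
  QCoh.Ab.isFlasque_restr V.ι.isOpenEmbedding (Coh.toAb F)

theorem shortExact_FU {S : ShortComplex (ModuleCat.{u} (CommRingCat.of A))} (hS : S.ShortExact) :
    (S.map (FU U)).ShortExact :=
  shortExact_restrict_toAb U (S.map (tilde.functor (CommRingCat.of A))) (H1LCZ.shortExact_tilde_toAb hS)

/-- Cohomology on `U`. -/
abbrev HU (N : ModuleCat.{u} (CommRingCat.of A)) (p : ℕ) : Type u := Coh.HH (↑U) ((Φ U).obj N) p

theorem subsingleton_injective [IsNoetherianRing A] (E : ModuleCat.{u} (CommRingCat.of A)) [Injective E]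
    (p : ℕ) : Subsingleton (HU U E (p + 1)) := by
  haveI : IsNoetherianRing (CommRingCat.of A) := inferInstanceAs (IsNoetherianRing A)
  haveI : Module.Injective (CommRingCat.of A) E := Module.injective_module_of_injective_object _ E
  haveI := H1LCZ.isFlasque_tilde E
  haveI : TopCat.Sheaf.IsFlasque (Coh.toAb ((Φ U).obj E)) :=
    isFlasque_restrict_toAb U (tilde E)
  exact S0453.result (Coh.toAb ((Φ U).obj E)) p

/-- The map induced on cohomology. -/
def hmap {N N' : ModuleCat.{u} (CommRingCat.of A)} (f : N ⟶ N') (p : ℕ) : HU U N p →+ HU U N' p :=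
  Hm ((Φ U).map f) p

theorem smul_eq (N : ModuleCat.{u} (CommRingCat.of A)) (b : A) {p : ℕ} (z : HU U N p) :
    b • z = hmap U (ModuleCat.ofHom (b • LinearMap.id : N →ₗ[A] N)) p z := by
  rw [hmap, Φ_map_smul]
  rfl

theorem hmap_comp {N N' N'' : ModuleCat.{u} (CommRingCat.of A)} (f : N ⟶ N') (g : N' ⟶ N'') {p : ℕ}
    (z : HU U N p) : hmap U (f ≫ g) p z = hmap U g p (hmap U f p z) := by
  simp only [hmap, Hm, Functor.map_comp, Sheaf.H.map_comp_apply]

theorem smulId_comm {N N' : ModuleCat.{u} (CommRingCat.of A)} (f : N ⟶ N') (b : A) :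
    (ModuleCat.ofHom (b • LinearMap.id : N →ₗ[A] N)) ≫ f = f ≫ ModuleCat.ofHom (b • LinearMap.id : N' →ₗ[A] N') :=
  ModuleCat.hom_ext (LinearMap.ext fun m => f.hom.map_smul b m)

theorem hmap_smul {N N' : ModuleCat.{u} (CommRingCat.of A)} (f : N ⟶ N') (b : A) {p : ℕ} (z : HU U N p) :
    hmap U f p (b • z) = b • hmap U f p z := by
  rw [smul_eq, smul_eq, ← hmap_comp, ← hmap_comp, smulId_comm]

theorem hmap_eq_comp {N N' : ModuleCat.{u} (CommRingCat.of A)} (f : N ⟶ N') {p : ℕ} (z : HU U N p) :
    hmap U f p z = Ext.comp z (Ext.mk₀ ((FU U).map f)) (add_zero p) := by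
  rw [hmap, Hm, Sheaf.H.map_apply]
  rfl

theorem ext_comm {C : Type*} [Category.{u} C] [Abelian C] [HasExt.{u} C] {E : Type*} [Category E]
    [HasZeroMorphisms E] (G : E ⥤ C) [G.PreservesZeroMorphisms] {P : C} {T : ShortComplex E}
    (hT : (T.map G).ShortExact) (φ : T ⟶ T) {p : ℕ} (x : Ext P (G.obj T.X₃) p) :
    Ext.comp (Ext.comp x (Ext.mk₀ (G.map φ.τ₃)) (add_zero p)) hT.extClass rfl =
      Ext.comp (Ext.comp x hT.extClass rfl) (Ext.mk₀ (G.map φ.τ₁)) (add_zero (p + 1)) := by
  have h := ShortComplex.ShortExact.extClass_naturality hT hT (G.mapShortComplex.map φ)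
  exact (Ext.comp_assoc_of_second_deg_zero _ _ _ _).trans
    ((congrArg (fun t => Ext.comp x t rfl) h.symm).trans (Ext.comp_assoc_of_third_deg_zero _ _ _ _).symm)

theorem ext_comp_g_extClass {C : Type*} [Category.{u} C] [Abelian C] [HasExt.{u} C] {E : Type*} [Category E]
    [HasZeroMorphisms E] (G : E ⥤ C) [G.PreservesZeroMorphisms] {P : C} {T : ShortComplex E}
    (hT : (T.map G).ShortExact) {p : ℕ} (y : Ext P (G.obj T.X₂) p) :
    Ext.comp (Ext.comp y (Ext.mk₀ (G.map T.g)) (add_zero p)) hT.extClass rfl = 0 :=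
  (Ext.comp_assoc_of_second_deg_zero _ _ _ _).trans
    ((congrArg (fun t => Ext.comp y t rfl) hT.comp_extClass).trans (Ext.comp_zero _ _ _ _ _))


end Groth.Agent.H1PunctLin

end
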