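import Groth.Agent.H1PunctLin.Main

/-!
# Cohomology of coherent modules on a punctured spectrum as local cohomology
-/

set_option autoImplicit false
set_option linter.style.haveILetI false
set_option backward.isDefEq.respectTransparency false
set_option backward.isDefEq.respectTransparency.types false

universe u

open CategoryTheory CategoryTheory.Limits AlgebraicGeometry TopologicalSpace Opposite CategoryTheory.Abelian

noncomputable section

namespace Groth.Agent.H1PunctLin

open Groth.Agent H1Punct

variable {A : Type u} [CommRing A]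

/-- `H^p` of a morphism of modules on `U` is `A`-linear. -/
def HmL (U : (Spec (CommRingCat.of A)).Opens) {N N' : (U : Scheme.{u}).Modules} (φ : N ⟶ N') (p : ℕ) :
    Coh.HH (↑U) N p →ₗ[A] Coh.HH (↑U) N' p :=
  { Hm φ p with
    map_smul' := fun b z => by
      show Hm φ p (Hm (Formal.smulMod A N b) p z) = Hm (Formal.smulMod A N' b) p (Hm φ p z)
      simp only [Hm, ← Sheaf.H.map_comp_apply, ← Functor.map_comp]
      rw [Algz7.smulMod_naturality] }

theorem HmL_bijective (U : (Spec (CommRingCat.of A)).Opens) {N N' : (U : Scheme.{u}).Modules} (e : N ≅ N') (p : ℕ) :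
    Function.Bijective (HmL U e.hom p) := by
  refine Function.bijective_iff_has_inverse.2 ⟨HmL U e.inv p, fun z => ?_, fun z => ?_⟩ <;>
  · show Hm _ p (Hm _ p z) = z
    simp only [Hm, ← Sheaf.H.map_comp_apply, ← Functor.map_comp, Iso.hom_inv_id, Iso.inv_hom_id,
      CategoryTheory.Functor.map_id, Sheaf.H.map_id_apply]

/-- A coherent module on a punctured spectrum extends to a finite module, whose local cohomology computes the
cohomology in positive degrees. -/
theorem exists_linearEquiv_locCoh [IsNoetherianRing A] (I : Ideal A)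
    (F : (↑(LocCoh.puncturedOpen A I) : Scheme.{u}).Modules) (hF : Coh.IsCoh F) (p : ℕ) :
    ∃ (M : ModuleCat.{u} (CommRingCat.of A)), Module.Finite A M ∧
      Nonempty (Coh.HH (↑(LocCoh.puncturedOpen A I) : Scheme.{u}) F (p + 1) ≃ₗ[A] LocCoh.H I (p + 2) M) := by
  let X := Spec (CommRingCat.of A)
  let U := LocCoh.puncturedOpen A I
  have hI : I.FG := IsNoetherian.noetherian I
  have hcpt : IsCompact (U : Set X) := by
    obtain ⟨s, hs⟩ := hI
    exact (PrimeSpectrum.isCompact_isOpen_iff_ideal.2 ⟨I, ⟨s, hs⟩, rfl⟩).1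
  haveI : QuasiCompact U.ι := QCoh.quasiCompact_ι_of_compact U hcpt
  obtain ⟨G, hG, hft, ⟨eG⟩⟩ := QCoh.exists_extension_abs (QCoh.extStep_qcqs hcpt) F hF.1 hF.2
  obtain ⟨M, ⟨i⟩⟩ := QCoh.isQCoh_spec_iff.1 hG
  haveI hfin : Module.Finite A M :=
    haveI := (QCoh.isFT_iff_finite (R := CommRingCat.of A) G hG).1 hft
    Module.Finite.equiv (((moduleSpecΓFunctor (R := CommRingCat.of A)).mapIso i).symm ≪≫
      ((tilde.toTildeΓNatIso (R := CommRingCat.of A)).app M).symm).toLinearEquiv
  let e : F ≅ (Φ U).obj M := eG.symm ≪≫ (Scheme.Modules.restrictFunctor U.ι).mapIso i.symm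
  obtain ⟨c⟩ := nonempty_linearEquiv U I rfl p M
  exact ⟨M, hfin, ⟨(LinearEquiv.ofBijective (HmL U e.hom (p + 1)) (HmL_bijective U e (p + 1))).trans c⟩⟩

end Groth.Agent.H1PunctLin

end
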