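import Groth.Agent.H1PunctLin.Basic

/-!
# Cohomology of a punctured spectrum is local cohomology, linearly
-/

set_option autoImplicit false
set_option linter.style.haveILetI false
set_option backward.isDefEq.respectTransparency false
set_option backward.isDefEq.respectTransparency.types false

universe u

open CategoryTheory CategoryTheory.Limits AlgebraicGeometry TopologicalSpace Opposite CategoryTheory.Abelian

noncomputable section

namespace Groth.Agent.H1PunctLin

open Groth.Agent H1Punct

variable {A : Type u} [CommRing A] (U : (Spec (CommRingCat.of A)).Opens)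
variable {S : ShortComplex (ModuleCat.{u} (CommRingCat.of A))} (hS : S.ShortExact)

/-- The connecting map. -/
def conn (p : ℕ) : HU U S.X₃ p →ₗ[A] HU U S.X₁ (p + 1) where
  toFun x := Ext.comp x (shortExact_FU U hS).extClass rfl
  map_add' x y := Ext.add_comp _ _ _ _
  map_smul' b x := by
    simp only [RingHom.id_apply]
    rw [smul_eq, smul_eq]
    let α : S ⟶ S :=
      { τ₁ := ModuleCat.ofHom (b • LinearMap.id : S.X₁ →ₗ[A] S.X₁)
        τ₂ := ModuleCat.ofHom (b • LinearMap.id : S.X₂ →ₗ[A] S.X₂)
        τ₃ := ModuleCat.ofHom (b • LinearMap.id : S.X₃ →ₗ[A] S.X₃)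
        comm₁₂ := smulId_comm S.f b
        comm₂₃ := smulId_comm S.g b }
    rw [hmap_eq_comp, hmap_eq_comp]
    exact ext_comm (FU U) (shortExact_FU U hS) α x

theorem conn_eq_zero_iff {p : ℕ} (x : HU U S.X₃ p) :
    conn U hS p x = 0 ↔ ∃ y, hmap U S.g p y = x := by
  constructor
  · intro h
    obtain ⟨y, hy⟩ := Ext.covariant_sequence_exact₃ _ (shortExact_FU U hS) x rfl h
    exact ⟨y, hy⟩
  · rintro ⟨y, rfl⟩
    rw [hmap_eq_comp]
    exact ext_comp_g_extClass (FU U) (shortExact_FU U hS) y

theorem conn_surjective {p : ℕ} (h : Subsingleton (HU U S.X₂ (p + 1))) : Function.Surjective (conn U hS p) := by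
  intro x
  obtain ⟨y, hy⟩ := Ext.covariant_sequence_exact₁ _ (shortExact_FU U hS) x
    (h.elim (hmap U S.f (p + 1) x) 0) (n₀ := p) rfl
  exact ⟨y, hy⟩

theorem conn_injective {p : ℕ} (h : Subsingleton (HU U S.X₂ p)) : Function.Injective (conn U hS p) := by
  refine (injective_iff_map_eq_zero _).2 fun x hx => ?_
  obtain ⟨y, rfl⟩ := (conn_eq_zero_iff U hS x).1 hx
  rw [h.elim y 0, map_zero]


end Groth.Agent.H1PunctLin

end
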