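import Groth.Agent.H1PunctLin.Basic

/-!
# Cohomology of a punctured spectrum is local cohomology, linearly
-/

set_option autoImplicit false
set_option linter.style.haveILetI false
set_option backward.isDefEq.respectTransparency false
set_option backward.isDefEq.respectTransparency.types false

universe u

open CategoryTheory CategoryTheory.Limits AlgebraicGeometry TopologicalSpace Opposite CategoryTheory.Abelian

noncomputable section

namespace Groth.Agent.H1PunctLin

open Groth.Agent H1Punct

variable {A : Type u} [CommRing A] (U : (Spec (CommRingCat.of A)).Opens)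
section General

variable {X : Scheme.{u}} (V : X.Opens)

def isTerminal_top : IsTerminal (⊤ : TopologicalSpace.Opens (V : Scheme.{u})) := isTerminalTop

/-- Restriction of global sections to `H^0` of the restriction. -/
def res0 (F : X.Modules) : Γ(F, ⊤) →+ Coh.HH (↑V) ((Scheme.Modules.restrictFunctor V.ι).obj F) 0 :=
  (Sheaf.H.equiv₀ (Coh.toAb ((Scheme.Modules.restrictFunctor V.ι).obj F)) (isTerminal_top V)).symm.toAddMonoidHom.comp
    (F.presheaf.map (homOfLE (le_top : V.ι ''ᵁ ⊤ ≤ ⊤)).op).hom

theorem res0_natural {F G : X.Modules} (φ : F ⟶ G) (s : Γ(F, ⊤)) :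
    Hm ((Scheme.Modules.restrictFunctor V.ι).map φ) 0 (res0 V F s) = res0 V G (φ.app ⊤ s) := by
  apply (Sheaf.H.equiv₀ (Coh.toAb ((Scheme.Modules.restrictFunctor V.ι).obj G)) (isTerminal_top V)).injective
  refine (Sheaf.H.equiv₀_naturality (isTerminal_top V) _ _).symm.trans ?_
  simp only [res0, AddMonoidHom.comp_apply, AddEquiv.coe_toAddMonoidHom, AddEquiv.apply_symm_apply]
  exact ConcreteCategory.congr_hom
    (((QCoh.toAbFunctor _).map φ).hom.naturality (homOfLE (le_top : V.ι ''ᵁ ⊤ ≤ ⊤)).op) s

theorem res0_eq_zero_iff (F : X.Modules) (s : Γ(F, ⊤)) :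
    res0 V F s = 0 ↔ (F.presheaf.map (homOfLE (le_top : V ≤ ⊤)).op).hom s = 0 := by
  show (Sheaf.H.equiv₀ _ _).symm _ = 0 ↔ _
  rw [AddEquiv.map_eq_zero_iff]
  have key : ∀ (W : X.Opens) (_ : W = V) (h : W ≤ ⊤),
      ((F.presheaf.map (homOfLE h).op).hom s = 0 ↔ (F.presheaf.map (homOfLE (le_top : V ≤ ⊤)).op).hom s = 0) := by
    rintro W rfl h
    rfl
  exact key _ V.ι_image_top le_top

theorem res0_surjective (F : X.Modules) [TopCat.Sheaf.IsFlasque (Coh.toAb F)] :
    Function.Surjective (res0 V F) :=
  (Sheaf.H.equiv₀ _ (isTerminal_top V)).symm.surjective.comp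
    ((AddCommGrpCat.epi_iff_surjective _).1
      (TopCat.Presheaf.IsFlasque.epi (F := (Coh.toAb F).obj) (homOfLE (le_top : V.ι ''ᵁ ⊤ ≤ ⊤)).op))

end General

/-- The canonical map from a module to the sections on `U`. -/
def q (N : ModuleCat.{u} (CommRingCat.of A)) : N →+ HU U N 0 :=
  (res0 U (tilde N)).comp (tilde.toOpen N ⊤).hom.toAddMonoidHom

theorem q_natural {N N' : ModuleCat.{u} (CommRingCat.of A)} (f : N ⟶ N') (m : N) :
    hmap U f 0 (q U N m) = q U N' (f.hom m) := by
  refine (res0_natural U ((tilde.functor (CommRingCat.of A)).map f) ((tilde.toOpen N ⊤).hom m)).trans ?_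
  exact congrArg (res0 U (tilde N')) congr(($(tilde.toOpen_map_app f ⊤)).hom m)

/-- The canonical map, linearly. -/
def qL (N : ModuleCat.{u} (CommRingCat.of A)) : N →ₗ[A] HU U N 0 :=
  { q U N with
    map_smul' := fun b m => by
      show q U N (b • m) = b • q U N m
      rw [smul_eq, q_natural]
      rfl }

theorem qL_natural {N N' : ModuleCat.{u} (CommRingCat.of A)} (f : N ⟶ N') (m : N) :
    hmap U f 0 (qL U N m) = qL U N' (f.hom m) := q_natural U f m

theorem q_eq_zero_iff (N : ModuleCat.{u} (CommRingCat.of A)) (m : N) :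
    qL U N m = 0 ↔ (tilde.toOpen N U).hom m = 0 :=
  (res0_eq_zero_iff U (tilde N) _).trans
    (Iff.of_eq (congrArg (· = 0) congr(($(tilde.toOpen_res N ⊤ U (homOfLE le_top))).hom m)))

theorem q_surjective_injective [IsNoetherianRing A] (E : ModuleCat.{u} (CommRingCat.of A)) [Injective E] :
    Function.Surjective (qL U E) := by
  haveI : IsNoetherianRing (CommRingCat.of A) := inferInstanceAs (IsNoetherianRing A)
  haveI : Module.Injective (CommRingCat.of A) E := Module.injective_module_of_injective_object _ E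
  haveI := H1LCZ.isFlasque_tilde E
  haveI : IsIso (tilde.toOpen E (⊤ : (Spec (CommRingCat.of A)).Opens)) := tilde.isIso_toOpen_top
  exact (res0_surjective U (tilde E)).comp
    (ConcreteCategory.bijective_of_isIso (tilde.toOpen E (⊤ : (Spec (CommRingCat.of A)).Opens))).2

end Groth.Agent.H1PunctLin

end
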