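import Groth.Agent.H1PunctLin.Conn
import Groth.Agent.H1PunctLin.Sections

/-!
# Cohomology of a punctured spectrum is local cohomology, linearly
-/

set_option autoImplicit false
set_option linter.style.haveILetI false
set_option backward.isDefEq.respectTransparency false
set_option backward.isDefEq.respectTransparency.types false

universe u

open CategoryTheory CategoryTheory.Limits AlgebraicGeometry TopologicalSpace Opposite CategoryTheory.Abelian

noncomputable section

namespace Groth.Agent.H1PunctLin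

open Groth.Agent H1Punct

variable {A : Type u} [CommRing A] (U : (Spec (CommRingCat.of A)).Opens)
variable {S : ShortComplex (ModuleCat.{u} (CommRingCat.of A))} (hS : S.ShortExact)

variable [IsNoetherianRing A] (I : Ideal A)
  (hU : (show Set (PrimeSpectrum A) from U.carrier) = (PrimeSpectrum.zeroLocus (I : Set A))ᶜ)

include hU in
theorem q_eq_zero_iff_torsion (N : ModuleCat.{u} (CommRingCat.of A)) (m : N) :
    qL U N m = 0 ↔ m ∈ DRing.torsionSub I N := by
  haveI : IsNoetherianRing (CommRingCat.of A) := inferInstanceAs (IsNoetherianRing A)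
  rw [q_eq_zero_iff]
  exact (H1LCZ.mem_torsionSub_iff (R := CommRingCat.of A) I U hU N m).symm

include hS in
theorem hmap_f_injective : Function.Injective (hmap U S.f 0) := by
  haveI := (shortExact_FU U hS).mono_f
  intro x y hxy
  obtain ⟨φ, rfl⟩ := (Ext.mk₀_bijective _ _).2 x
  obtain ⟨ψ, rfl⟩ := (Ext.mk₀_bijective _ _).2 y
  change Ext.comp (Ext.mk₀ φ) (Ext.mk₀ (S.map (FU U)).f) (add_zero 0) =
    Ext.comp (Ext.mk₀ ψ) (Ext.mk₀ (S.map (FU U)).f) (add_zero 0) at hxy
  rw [Ext.mk₀_comp_mk₀, Ext.mk₀_comp_mk₀] at hxy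
  exact congrArg _ ((cancel_mono (S.map (FU U)).f).1 ((Ext.mk₀_bijective _ _).1 hxy))

include hS in
theorem exists_hmap_f {z : HU U S.X₂ 0} (hz : hmap U S.g 0 z = 0) : ∃ s, hmap U S.f 0 s = z :=
  Ext.covariant_sequence_exact₂ _ (shortExact_FU U hS) z hz

/-- Two surjections with equal kernels. -/
theorem equiv_of_surjective {W H H' : Type u} [AddCommGroup W] [Module A W] [AddCommGroup H] [Module A H]
    [AddCommGroup H'] [Module A H'] (p : W →ₗ[A] H) (p' : W →ₗ[A] H') (hp : Function.Surjective p)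
    (hp' : Function.Surjective p') (h : ∀ w, p w = 0 ↔ p' w = 0) : Nonempty (H ≃ₗ[A] H') :=
  ⟨(p.quotKerEquivOfSurjective hp).symm.trans ((Submodule.quotEquivOfEq _ _
    (Submodule.ext h)).trans (p'.quotKerEquivOfSurjective hp'))⟩

include hU in
/-- The cokernel of `C → Γ(U, C~)` is `H^1_I(C)`. -/
theorem nonempty_coker_equiv (C : ModuleCat.{u} (CommRingCat.of A)) :
    Nonempty ((HU U C 0 ⧸ LinearMap.range (qL U C)) ≃ₗ[A]
      (localCohomology (R := A) I 1).obj (ModuleCat.of A C)) := by
  obtain ⟨P⟩ := EnoughInjectives.presentation C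
  let S := P.shortComplex
  have hS : S.ShortExact := P.shortExact_shortComplex
  haveI : Injective S.X₂ := P.injective
  haveI : IsNoetherianRing (CommRingCat.of A) := inferInstanceAs (IsNoetherianRing A)
  let W : Submodule A S.X₂ := (DRing.torsionSub I S.X₃).comap S.g.hom
  have hθ : ∀ e : W, ∃ s, hmap U S.f 0 s = qL U S.X₂ e.1 := fun e => exists_hmap_f U hS (by
    rw [qL_natural, q_eq_zero_iff_torsion U I hU]
    exact e.2)
  choose σ hσ using hθ
  have hinj := hmap_f_injective U hS
  let θ : W →ₗ[A] HU U S.X₁ 0 :=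
    { toFun := σ
      map_add' := fun a b => hinj (by rw [map_add, hσ, hσ, hσ, Submodule.coe_add, map_add])
      map_smul' := fun a b => hinj (by
        rw [RingHom.id_apply, hmap_smul, hσ, hσ, Submodule.coe_smul, map_smul]) }
  let p : W →ₗ[A] HU U S.X₁ 0 ⧸ LinearMap.range (qL U S.X₁) := Submodule.mkQ _ ∘ₗ θ
  let p' : W →ₗ[A] (localCohomology (R := A) I 1).obj S.X₁ :=
    LC.coker₁ I hS ∘ₗ LinearMap.codRestrict (DRing.torsionSub I S.X₃) (S.g.hom ∘ₗ W.subtype) fun e => e.2
  have hfg : ∀ x : S.X₁, S.g.hom (S.f.hom x) = 0 := fun x => congr(($(S.zero)).hom x)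
  refine equiv_of_surjective p p' ?_ ?_ fun e => ?_
  · intro t
    obtain ⟨t, rfl⟩ := Submodule.Quotient.mk_surjective _ t
    obtain ⟨e, he⟩ := q_surjective_injective U S.X₂ (hmap U S.f 0 t)
    refine ⟨⟨e, ?_⟩, congrArg Submodule.Quotient.mk (hinj ((hσ _).trans he))⟩
    show S.g.hom e ∈ DRing.torsionSub I S.X₃
    rw [← q_eq_zero_iff_torsion U I hU, ← qL_natural, he, ← hmap_comp, S.zero]
    refine (hmap_eq_comp U (0 : S.X₁ ⟶ S.X₃) t).trans ?_
    rw [Functor.map_zero, Ext.mk₀_zero, Ext.comp_zero]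
  · refine (LC.coker₁_surjective I hS fun q => LC.subsingleton_of_injective I S.X₂ q).comp fun y => ?_
    haveI := hS.epi_g
    obtain ⟨e, he⟩ := (ModuleCat.epi_iff_surjective S.g).1 inferInstance y.1
    exact ⟨⟨e, show S.g.hom e ∈ _ from he ▸ y.2⟩, Subtype.ext he⟩
  · show Submodule.Quotient.mk (σ e) = 0 ↔ LC.coker₁ I hS _ = 0
    rw [Submodule.Quotient.mk_eq_zero, LC.coker₁_eq_zero_iff]
    constructor
    · rintro ⟨c, hc⟩
      refine ⟨e.1 - S.f.hom c, ?_, ?_⟩
      · rw [← q_eq_zero_iff_torsion U I hU, map_sub, ← hσ e, ← hc, qL_natural, sub_self]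
      · show S.g.hom (e.1 - S.f.hom c) = S.g.hom e.1
        rw [map_sub, hfg, sub_zero]
    · rintro ⟨x, hx, hxe⟩
      obtain ⟨c, hc⟩ := (ShortComplex.moduleCat_exact_iff S).1 hS.exact (e.1 - x)
        (by rw [map_sub, sub_eq_zero]; exact hxe.symm)
      refine ⟨c, hinj ?_⟩
      rw [hσ, qL_natural, hc, map_sub, (q_eq_zero_iff_torsion U I hU _ x).2 hx, sub_zero]

include hU in
/-- `H^(p+1)(U, N~) ≅ H^(p+2)_I(N)` linearly. -/
theorem nonempty_linearEquiv : ∀ (p : ℕ) (N : ModuleCat.{u} (CommRingCat.of A)),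
    Nonempty (HU U N (p + 1) ≃ₗ[A] (localCohomology (R := A) I (p + 2)).obj N) := by
  intro p
  induction p with
  | zero =>
    intro N
    obtain ⟨P⟩ := EnoughInjectives.presentation N
    have key : ∀ S : ShortComplex (ModuleCat.{u} (CommRingCat.of A)), S.ShortExact → Injective S.X₂ →
        Nonempty (HU U S.X₁ 1 ≃ₗ[A] (localCohomology (R := A) I 2).obj S.X₁) := by
      intro S hS hinj
      haveI := hinj
      have h2 : ∀ j, Subsingleton ((localCohomology (R := A) I (j + 1)).obj S.X₂) :=
        fun j => LC.subsingleton_of_injective I S.X₂ j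
      obtain ⟨e₂⟩ := nonempty_coker_equiv U I hU S.X₃
      have hrange : LinearMap.ker (conn U hS 0) = LinearMap.range (qL U S.X₃) := by
        ext x
        rw [LinearMap.mem_ker, conn_eq_zero_iff]
        constructor
        · rintro ⟨y, rfl⟩
          obtain ⟨e, rfl⟩ := q_surjective_injective U S.X₂ y
          exact ⟨S.g.hom e, (qL_natural U S.g e).symm⟩
        · rintro ⟨c, rfl⟩
          haveI := hS.epi_g
          obtain ⟨e, rfl⟩ := (ModuleCat.epi_iff_surjective S.g).1 inferInstance c
          exact ⟨qL U S.X₂ e, qL_natural U S.g e⟩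
      exact ⟨(((conn U hS 0).quotKerEquivOfSurjective
          (conn_surjective U hS (subsingleton_injective U S.X₂ 0))).symm.trans
        (Submodule.quotEquivOfEq _ _ hrange)).trans (e₂.trans (LC.shiftEquiv I hS h2 0))⟩
    exact key P.shortComplex P.shortExact_shortComplex P.injective
  | succ p ih =>
    intro N
    obtain ⟨P⟩ := EnoughInjectives.presentation N
    have key : ∀ S : ShortComplex (ModuleCat.{u} (CommRingCat.of A)), S.ShortExact → Injective S.X₂ →
        Nonempty (HU U S.X₁ (p + 1 + 1) ≃ₗ[A] (localCohomology (R := A) I (p + 1 + 2)).obj S.X₁) := by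
      intro S hS hinj
      haveI := hinj
      have h2 : ∀ j, Subsingleton ((localCohomology (R := A) I (j + 1)).obj S.X₂) :=
        fun j => LC.subsingleton_of_injective I S.X₂ j
      obtain ⟨e₂⟩ := ih S.X₃
      exact ⟨(LinearEquiv.ofBijective (conn U hS (p + 1)) ⟨conn_injective U hS (subsingleton_injective U S.X₂ p),
        conn_surjective U hS (subsingleton_injective U S.X₂ (p + 1))⟩).symm.trans
        (e₂.trans (LC.shiftEquiv I hS h2 (p + 1)))⟩
    exact key P.shortComplex P.shortExact_shortComplex P.injective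


end Groth.Agent.H1PunctLin

end
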