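import Groth.Agent.H1Punct.Main
import Groth.Agent.H1LCZ.AffineIso
import Groth.Agent.QCoh.Ab.Restrict
import Groth.Agent.QCoh.HHExact
import Groth.Agent.S0453

/-!
# Cohomology of a punctured spectrum is local cohomology, linearly
-/

set_option autoImplicit false
set_option linter.style.haveILetI false
set_option backward.isDefEq.respectTransparency false
set_option backward.isDefEq.respectTransparency.types false

universe u

open CategoryTheory CategoryTheory.Limits AlgebraicGeometry TopologicalSpace Opposite CategoryTheory.Abelian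

noncomputable section

namespace Groth.Agent.H1PunctLin

open Groth.Agent H1Punct

variable {A : Type u} [CommRing A] (U : (Spec (CommRingCat.of A)).Opens)

instance : (tilde.functor (CommRingCat.of A)).Additive := by
  haveI : PreservesFiniteLimits (tilde.functor (CommRingCat.of A)) :=
    QCoh.tilde_preservesFiniteLimits (R := CommRingCat.of A)
  exact Functor.additive_of_preserves_binary_products _

/-- `M ↦` the abelian sheaf of `M~|U`. -/
abbrev FU : ModuleCat.{u} (CommRingCat.of A) ⥤ CohTop.Ab (U : Scheme.{u}).carrier :=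
  Φ U ⋙ QCoh.toAbFunctor _

theorem shortExact_restrict_toAb {X : Scheme.{u}} (V : X.Opens) (T : ShortComplex X.Modules)
    (hT : (T.map (QCoh.toAbFunctor X)).ShortExact) :
    ((T.map (Scheme.Modules.restrictFunctor V.ι)).map (QCoh.toAbFunctor _)).ShortExact :=
  QCoh.Ab.restr_shortExact V.ι.isOpenEmbedding hT

theorem isFlasque_restrict_toAb {X : Scheme.{u}} (V : X.Opens) (F : X.Modules)
    [TopCat.Sheaf.IsFlasque (Coh.toAb F)] :
    TopCat.Sheaf.IsFlasque (Coh.toAb ((Scheme.Modules.restrictFunctor V.ι).obj F)) :=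
  QCoh.Ab.isFlasque_restr V.ι.isOpenEmbedding (Coh.toAb F)

theorem shortExact_FU {S : ShortComplex (ModuleCat.{u} (CommRingCat.of A))} (hS : S.ShortExact) :
    (S.map (FU U)).ShortExact :=
  shortExact_restrict_toAb U (S.map (tilde.functor (CommRingCat.of A))) (H1LCZ.shortExact_tilde_toAb hS)

/-- Cohomology on `U`. -/
abbrev HU (N : ModuleCat.{u} (CommRingCat.of A)) (p : ℕ) : Type u := Coh.HH (↑U) ((Φ U).obj N) p

theorem subsingleton_injective [IsNoetherianRing A] (E : ModuleCat.{u} (CommRingCat.of A)) [Injective E]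
    (p : ℕ) : Subsingleton (HU U E (p + 1)) := by
  haveI : IsNoetherianRing (CommRingCat.of A) := inferInstanceAs (IsNoetherianRing A)
  haveI : Module.Injective (CommRingCat.of A) E := Module.injective_module_of_injective_object _ E
  haveI := H1LCZ.isFlasque_tilde E
  haveI : TopCat.Sheaf.IsFlasque (Coh.toAb ((Φ U).obj E)) :=
    isFlasque_restrict_toAb U (tilde E)
  exact S0453.result (Coh.toAb ((Φ U).obj E)) p

/-- The map induced on cohomology. -/
def hmap {N N' : ModuleCat.{u} (CommRingCat.of A)} (f : N ⟶ N') (p : ℕ) : HU U N p →+ HU U N' p :=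
  Hm ((Φ U).map f) p

theorem smul_eq (N : ModuleCat.{u} (CommRingCat.of A)) (b : A) {p : ℕ} (z : HU U N p) :
    b • z = hmap U (ModuleCat.ofHom (b • LinearMap.id : N →ₗ[A] N)) p z := by
  rw [hmap, Φ_map_smul]
  rfl

theorem hmap_comp {N N' N'' : ModuleCat.{u} (CommRingCat.of A)} (f : N ⟶ N') (g : N' ⟶ N'') {p : ℕ}
    (z : HU U N p) : hmap U (f ≫ g) p z = hmap U g p (hmap U f p z) := by
  simp only [hmap, Hm, Functor.map_comp, Sheaf.H.map_comp_apply]

theorem smulId_comm {N N' : ModuleCat.{u} (CommRingCat.of A)} (f : N ⟶ N') (b : A) :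
    (ModuleCat.ofHom (b • LinearMap.id : N →ₗ[A] N)) ≫ f = f ≫ ModuleCat.ofHom (b • LinearMap.id : N' →ₗ[A] N') :=
  ModuleCat.hom_ext (LinearMap.ext fun m => f.hom.map_smul b m)

theorem hmap_smul {N N' : ModuleCat.{u} (CommRingCat.of A)} (f : N ⟶ N') (b : A) {p : ℕ} (z : HU U N p) :
    hmap U f p (b • z) = b • hmap U f p z := by
  rw [smul_eq, smul_eq, ← hmap_comp, ← hmap_comp, smulId_comm]

theorem hmap_eq_comp {N N' : ModuleCat.{u} (CommRingCat.of A)} (f : N ⟶ N') {p : ℕ} (z : HU U N p) :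
    hmap U f p z = Ext.comp z (Ext.mk₀ ((FU U).map f)) (add_zero p) := by
  rw [hmap, Hm, Sheaf.H.map_apply]
  rfl

theorem ext_comm {C : Type*} [Category.{u} C] [Abelian C] [HasExt.{u} C] {P : C} {T : ShortComplex C}
    (hT : T.ShortExact) (φ : T ⟶ T) {p : ℕ} (x : Ext P T.X₃ p) :
    (x.comp (Ext.mk₀ φ.τ₃) (add_zero p)).comp hT.extClass rfl =
      (x.comp hT.extClass rfl).comp (Ext.mk₀ φ.τ₁) (add_zero (p + 1)) := by
  rw [Ext.comp_assoc_of_second_deg_zero, Ext.comp_assoc_of_third_deg_zero,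
    ShortComplex.ShortExact.extClass_naturality hT hT φ]

theorem ext_comp_g_extClass {C : Type*} [Category.{u} C] [Abelian C] [HasExt.{u} C] {P : C} {T : ShortComplex C}
    (hT : T.ShortExact) {p : ℕ} (y : Ext P T.X₂ p) :
    (y.comp (Ext.mk₀ T.g) (add_zero p)).comp hT.extClass rfl = 0 := by
  rw [Ext.comp_assoc_of_second_deg_zero, ShortComplex.ShortExact.comp_extClass, Ext.comp_zero]

variable {S : ShortComplex (ModuleCat.{u} (CommRingCat.of A))} (hS : S.ShortExact)

/-- The connecting map. -/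
def conn (p : ℕ) : HU U S.X₃ p →ₗ[A] HU U S.X₁ (p + 1) where
  toFun x := Ext.comp x (shortExact_FU U hS).extClass rfl
  map_add' x y := Ext.add_comp _ _ _ _
  map_smul' b x := by
    simp only [RingHom.id_apply]
    rw [smul_eq, smul_eq]
    let α : S ⟶ S :=
      { τ₁ := ModuleCat.ofHom (b • LinearMap.id : S.X₁ →ₗ[A] S.X₁)
        τ₂ := ModuleCat.ofHom (b • LinearMap.id : S.X₂ →ₗ[A] S.X₂)
        τ₃ := ModuleCat.ofHom (b • LinearMap.id : S.X₃ →ₗ[A] S.X₃)
        comm₁₂ := smulId_comm S.f b
        comm₂₃ := smulId_comm S.g b }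
    rw [hmap_eq_comp, hmap_eq_comp]
    exact ext_comm (shortExact_FU U hS) ((FU U).mapShortComplex.map α) x

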